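import Cfsg.Agent.SuzOut.Checks

/-! The outer automorphism group of the presented Suzuki sporadic group has order two. -/

set_option autoImplicit false
set_option maxRecDepth 100000

namespace Cfsg.Agent.SuzOut

open Cfsg.Agent.CosetCert Cfsg.Agent.CosetEnum Cfsg.Agent.PermAut Cfsg.Agent.AutCert

/-- The group. -/
abbrev S : Type := Cfsg.Spor.Suz

theorem card_S : Nat.card S = 448345497600 := CosetEnum.Suzuki.main.2

instance : Finite S := Nat.finite_of_card_ne_zero (by rw [card_S]; decide)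

theorem gen_eq : ∀ i < 1782, ∀ l < 8, 1 ≤ l → T0 l i = SuzukiG.data.look l i := by
  intro i hi l hl h1
  obtain ⟨k, rfl⟩ : ∃ k, l = k + 1 := ⟨l - 1, by omega⟩
  have h := gen_ok i hi
  simp only [genB, List.all_eq_true, List.mem_range, Bool.and_eq_true] at h
  exact Nat.eq_of_beq_eq_true (h k (by omega)).1

theorem exists_faithful : ∃ φ : S →* Equiv.Perm (Fin 1782), Function.Injective φ ∧
    ∀ l ∈ [1, 2, 3, 4, 5, 6, 7], ∀ i : Fin 1782,
      (φ (SuzukiG.data.act PresentedGroup.of l) i : ℕ) = T0 l i := by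
  suffices h : ∃ φ : S →* Equiv.Perm (Fin 1782), Function.Injective φ ∧
      ∀ l ∈ [1, 2, 3, 4, 5, 6, 7], ∀ i : Fin 1782,
        (φ (SuzukiG.data.act PresentedGroup.of l) i : ℕ) = SuzukiG.data.look l i by
    obtain ⟨φ, h1, h2⟩ := h
    refine ⟨φ, h1, fun l hl i => ?_⟩
    have : 1 ≤ l ∧ l < 8 := by simp at hl; omega
    rw [h2 l hl i, gen_eq i i.2 l this.2 this.1]
  obtain ⟨φ, hof, -⟩ := enum_spec SuzukiG.valid SuzukiG.word_letters SuzukiG.base_letters
  have hact : ∀ l ∈ [1, 2, 3, 4, 5, 6, 7], ∀ i : Fin SuzukiG.data.N,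
      (φ (SuzukiG.data.act PresentedGroup.of l) i : ℕ) = SuzukiG.data.look l i := by
    intro l hl i
    have hl' : 1 ≤ l ∧ l ≤ SuzukiG.data.cols.length := by
      have : SuzukiG.data.cols.length = 7 := rfl
      simp only [List.mem_cons, List.not_mem_nil, or_false] at hl
      omega
    rw [PresData.map_act, show (φ ∘ PresentedGroup.of) = PresData.genPerm SuzukiG.valid from funext hof,
      PresData.act_genPerm SuzukiG.valid hl'.1 hl'.2, PresData.perm_apply SuzukiG.valid hl'.1 hl'.2]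
  refine ⟨φ, ?_, hact⟩
  refine (MonoidHom.ker_eq_bot_iff φ).1 ?_
  have := CosetEnum.Suzuki.main.1
  refine ((φ.normal_ker).eq_bot_or_eq_top).resolve_right fun h => seven_moves.1 ?_
  have h7 : φ (SuzukiG.data.act PresentedGroup.of 7) = 1 := by
    rw [← MonoidHom.mem_ker, h]; exact Subgroup.mem_top _
  have hN : SuzukiG.data.N = 1782 := rfl
  have h8 := hact 7 (by decide) ⟨0, by omega⟩
  rw [h7] at h8
  have h9 : T1 7 0 = T0 7 0 := rfl
  rw [h9, gen_eq 0 (by decide) 7 (by decide) (by decide)]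
  simpa using h8.symm

/-- The faithful action. -/
noncomputable def phi : S →* Equiv.Perm (Fin 1782) := exists_faithful.choose

/-- The model with the letters of the generators. -/
noncomputable def M0 : Mdl S where
  N := 1782
  T := T0
  γ := SuzukiG.data.act PresentedGroup.of
  letters := [1, 2, 3, 4, 5, 6, 7]
  φ := phi
  inj := exists_faithful.choose_spec.1
  hσ := exists_faithful.choose_spec.2

/-- The model with the further letters. -/
noncomputable def M : Mdl S :=
  M0.extend 8 (show ∀ l ∈ [1, 2, 3, 4, 5, 6, 7], l < 8 by decide) extWords extTabs ext_words_ok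
    ext_tabs_ok

theorem mem_letters {l : ℕ} (h : l < 11 ∧ 1 ≤ l) : l ∈ M.letters := by
  show l ∈ [1, 2, 3, 4, 5, 6, 7] ++ (List.range 3).map (· + 8)
  simp only [List.mem_append, List.mem_cons, List.not_mem_nil, or_false, List.mem_map, List.mem_range]
  by_cases h' : l < 8
  · left; omega
  · right; exact ⟨l - 8, by omega, by omega⟩

theorem letters_of {u : List ℕ} (h : ∀ l ∈ u, l < 11 ∧ 1 ≤ l) : ∀ l ∈ u, l ∈ M.letters :=
  fun l hl => mem_letters (h l hl)

theorem getD_ok {us : List (List ℕ)} (h : ∀ u ∈ us, ∀ l ∈ u, l < 11 ∧ 1 ≤ l) (n : ℕ) :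
    ∀ l ∈ us.getD n [], l < 11 ∧ 1 ≤ l := by
  intro l hl
  by_cases hn : n < us.length
  · rw [List.getD_eq_getElem _ _ hn] at hl
    exact h _ (List.getElem_mem hn) l hl
  · rw [List.getD_eq_default _ _ (not_lt.1 hn)] at hl
    exact absurd hl List.not_mem_nil

theorem dwords_lt (n : ℕ) : ∀ l ∈ dwords.getD n [], l < 11 ∧ 1 ≤ l :=
  getD_ok (fun u hu => words_ok.1 u (by simp [hu])) n

theorem rep_lt (n l : ℕ) (h : l < 11 ∧ 1 ≤ l) : ∀ m ∈ List.replicate n l, m < 11 ∧ 1 ≤ m :=
  fun _ hm => (List.eq_of_mem_replicate hm).symm ▸ h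

theorem app_lt2 {u v : List ℕ} (hu : ∀ l ∈ u, l < 11 ∧ 1 ≤ l) (hv : ∀ l ∈ v, l < 11 ∧ 1 ≤ l) :
    ∀ l ∈ u ++ v, l < 11 ∧ 1 ≤ l := fun l hl => (List.mem_append.1 hl).elim (hu l) (hv l)

/-- `c`, a generator of a Sylow 11-subgroup. -/
noncomputable abbrev c : S := M.ev [8]
/-- `d`, normalising it. -/
noncomputable abbrev d : S := M.ev [9]
/-- `e`, normalising `⟨d⟩`. -/
noncomputable abbrev e : S := M.ev [10]

theorem ev_rep (l n : ℕ) : M.ev [l] ^ n = M.ev (List.replicate n l) := by
  rw [M.ev_pow]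
  congr 1
  induction n with
  | zero => rfl
  | succ n ih => simp [List.replicate_succ, ih]

/-- The chain through the orbit of `c`. -/
noncomputable def chainC : M.Chain where
  L0 := [1, 2, 3, 4, 5, 6, 7]
  Ps := levCs
  sub := fun l hl => mem_letters ⟨by simp at hl; omega, by simp at hl; omega⟩
  valid := (chain_of_checks levCs [] levC_ok levC_fix).1
  inv := (chain_of_checks levCs [] levC_ok levC_fix).2
  card := card_S ▸ levC_prod

/-- The chain through the orbit of `d`. -/
noncomputable def chainD : M.Chain where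
  L0 := [1, 2, 3, 4, 5, 6, 7]
  Ps := levDs
  sub := fun l hl => mem_letters ⟨by simp at hl; omega, by simp at hl; omega⟩
  valid := (chain_of_checks levDs [] levD_ok levD_fix).1
  inv := (chain_of_checks levDs [] levD_ok levD_fix).2
  card := card_S ▸ levD_prod

theorem of_same {u v : List ℕ} (hu : ∀ l ∈ u, l < 11 ∧ 1 ≤ l) (hv : ∀ l ∈ v, l < 11 ∧ 1 ≤ l)
    (h : sameB u v = true) : M.ev u = M.ev v :=
  chainC.eq_of_base (letters_of hu) (letters_of hv) base_lt fun P hP =>
    Nat.eq_of_beq_eq_true (List.all_eq_true.1 h _ (List.mem_map.2 ⟨P, hP, rfl⟩))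

theorem c_pow_eleven : c ^ 11 = 1 := by
  rw [ev_rep, ← M.ev_nil]
  exact of_same (rep_lt _ _ (by omega)) (by simp) eq_pow

theorem c_ne_one : c ≠ 1 := by
  rw [← M.ev_nil]
  exact M.ne_of_run (letters_of (by simp)) (by simp) (i := 0) (show 0 < 1782 by decide) seven_moves.2

theorem orderOf_c : orderOf c = 11 := by
  have : Fact (Nat.Prime 11) := ⟨by norm_num⟩
  exact orderOf_eq_prime c_pow_eleven c_ne_one

theorem d_c : d * c = c ^ 2 * d := by
  rw [ev_rep, ← M.ev_append, ← M.ev_append]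
  exact of_same (by simp) (by simp [List.replicate]) eq_dc

theorem e_d : e * d = d ^ 3 * e := by
  rw [ev_rep, ← M.ev_append, ← M.ev_append]
  exact of_same (by simp) (by simp [List.replicate]) eq_ed

theorem cent_c (x : S) (hx : x * c = c * x) : ∃ i < 11, x = c ^ i := by
  obtain ⟨u, hu, rfl⟩ := chainC.eq_of_comm [8] (letters_of (by simp)) [0, 1, 2, 3, 4, 5] 0
    (show 0 < 1782 by decide)
    baseC cwords (fun u hu => letters_of (words_ok.1 u (by simp [hu]))) centC x hx
  obtain ⟨n, hn, rfl⟩ := List.mem_iff_getElem.1 hu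
  have hlen : cwords.length = 11 := words_ok.2.2.2.2.1
  refine ⟨n, hlen ▸ hn, ?_⟩
  rw [ev_rep, ← cwords_eq n (hlen ▸ hn), List.getD_eq_getElem _ _ hn]

theorem cent_d (x : S) (hx : x * d = d * x) : ∃ n < 20, x = M.ev (dwords.getD n []) := by
  obtain ⟨u, hu, rfl⟩ := chainD.eq_of_comm [9] (letters_of (by simp)) [0, 1, 2, 3, 4] 0
    (show 0 < 1782 by decide)
    baseD dwords (fun u hu => letters_of (words_ok.1 u (by simp [hu]))) centD x hx
  obtain ⟨n, hn, rfl⟩ := List.mem_iff_getElem.1 hu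
  have hlen : dwords.length = 20 := words_ok.2.2.2.1
  exact ⟨n, hlen ▸ hn, by rw [List.getD_eq_getElem _ _ hn]⟩

theorem closure_letters :
    Subgroup.closure (M.γ '' {l | l ∈ [1, 2, 3, 4, 5, 6, 7]}) = ⊤ := by
  rw [eq_top_iff, ← PresentedGroup.closure_range_of, Subgroup.closure_le]
  rintro _ ⟨a, rfl⟩
  refine Subgroup.subset_closure ⟨SuzukiG.code a, ?_, ?_⟩
  · cases a <;> decide
  · cases a <;> rfl

theorem closure_cde : Subgroup.closure ({c, d, e} : Set S) = ⊤ := by
  rw [eq_top_iff, ← closure_letters, Subgroup.closure_le]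
  rintro _ ⟨l, hl, rfl⟩
  obtain ⟨k, rfl⟩ : ∃ k, l = k + 1 := ⟨l - 1, by simp at hl; omega⟩
  have hk : k < 7 := by simp at hl; omega
  have hev : M.γ (k + 1) = M.ev [k + 1] := (one_mul _).symm
  rw [hev, of_same (by simp; omega) (getD_ok (fun u hu => words_ok.1 u (by simp [hu])) k) (eq_gen k hk)]
  have hw : ∀ x ∈ genWords.getD k [], 8 ≤ x ∧ x < 11 := by
    intro x hx
    have hkl : k < genWords.length := words_ok.2.2.1.symm ▸ hk
    rw [List.getD_eq_getElem _ _ hkl] at hx
    exact ⟨words_ok.2.1 _ (List.getElem_mem hkl) x hx,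
      (words_ok.1 _ (by simp [List.getElem_mem hkl]) x hx).1⟩
  generalize genWords.getD k [] = w at hw
  induction w with
  | nil => exact Subgroup.one_mem _
  | cons x w ih =>
    refine Subgroup.mul_mem _ (ih fun y hy => hw y (List.mem_cons_of_mem _ hy)) ?_
    have hx := hw x List.mem_cons_self
    rw [show M.γ x = M.ev [x] from (one_mul (M.γ x)).symm]
    obtain rfl | rfl | rfl : x = 8 ∨ x = 9 ∨ x = 10 := by omega
    all_goals exact Subgroup.subset_closure (by simp)

theorem code3_lt {w a b z : List ℕ} (ha : ∀ l ∈ a, l < 11 ∧ 1 ≤ l) (hb : ∀ l ∈ b, l < 11 ∧ 1 ≤ l)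
    (hz : ∀ l ∈ z, l < 11 ∧ 1 ≤ l) : ∀ l ∈ code3 w a b z, l < 11 ∧ 1 ≤ l := by
  intro l hl
  obtain ⟨v, hv, hlv⟩ := List.mem_flatten.1 hl
  obtain ⟨i, -, rfl⟩ := List.mem_map.1 hv
  split_ifs at hlv with h1 h2
  exacts [ha l hlv, hb l hlv, hz l hlv]

/-- The permutation `tau`. -/
noncomputable def tau : Equiv.Perm (Fin M.N) :=
  Function.Involutive.toPerm
    (fun i => ⟨tauT.get 32 i, by
      have := tau_ok i i.2
      simp only [tauB, Bool.and_eq_true] at this
      exact Nat.le_of_ble_eq_true this.1⟩)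
    (fun i => Fin.ext (by
      have := tau_ok i i.2
      simp only [tauB, Bool.and_eq_true] at this
      exact Nat.eq_of_beq_eq_true this.2.1))

theorem tau_apply (i : Fin M.N) : (tau i : ℕ) = tauT.get 32 i := rfl

theorem tau_inv : tau⁻¹ = tau := Function.Involutive.toPerm_symm _

theorem tau_conj (l : ℕ) (hl : l < 11 ∧ 1 ≤ l) (v : List ℕ) (hv : ∀ x ∈ v, x < 11 ∧ 1 ≤ x)
    (h : ∀ i < 1782, Nat.beq (tauT.get 32 (T1 l (tauT.get 32 i))) (runWord T1 v i) = true) :
    tau * M.φ (M.γ l) * tau⁻¹ = M.φ (M.ev v) := by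
  rw [tau_inv]
  refine Equiv.ext fun i => Fin.ext ?_
  rw [Equiv.Perm.mul_apply, Equiv.Perm.mul_apply]
  have h1 := M.hσ l (mem_letters hl) (tau i)
  have h2 := M.run_ev v (letters_of hv) i
  show (tau (M.φ (M.γ l) (tau i)) : ℕ) = _
  rw [tau_apply]
  exact (congrArg (tauT.get 32) h1).trans ((Nat.eq_of_beq_eq_true (h i i.2)).trans h2.symm)

theorem exists_sigma : ∃ σ : MulAut S, σ c = c ∧ σ d = d ∧
    σ e = e * M.ev (dwords.getD zOne []) := by
  have hb : ∀ i < 1782, Nat.beq (tauT.get 32 (T1 8 (tauT.get 32 i))) (runWord T1 [8] i) = true ∧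
      Nat.beq (tauT.get 32 (T1 9 (tauT.get 32 i))) (runWord T1 [9] i) = true ∧
      Nat.beq (tauT.get 32 (T1 10 (tauT.get 32 i))) (runWord T1 (dwords.getD zOne [] ++ [10]) i) = true := by
    intro i hi
    have := tau_ok i hi
    simp only [tauB, Bool.and_eq_true] at this
    exact ⟨this.2.2.1, this.2.2.2.1, this.2.2.2.2⟩
  have h8 := tau_conj 8 (by omega) [8] (by simp) fun i hi => (hb i hi).1
  have h9 := tau_conj 9 (by omega) [9] (by simp) fun i hi => (hb i hi).2.1
  have h10 := tau_conj 10 (by omega) _ (app_lt2 (dwords_lt _) (by simp)) fun i hi => (hb i hi).2.2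
  have hev : ∀ l, M.ev [l] = M.γ l := fun l => one_mul _
  obtain ⟨σ, hσ⟩ := M.exists_aut tau [8, 9, 10] (by
    rw [eq_top_iff, ← closure_cde]
    refine Subgroup.closure_mono fun x hx => ?_
    rcases hx with rfl | rfl | rfl
    exacts [⟨8, by simp, (hev 8).symm⟩, ⟨9, by simp, (hev 9).symm⟩, ⟨10, by simp, (hev 10).symm⟩]) (by
    intro l hl
    simp only [List.mem_cons, List.not_mem_nil, or_false] at hl
    rcases hl with rfl | rfl | rfl
    exacts [⟨_, h8⟩, ⟨_, h9⟩, ⟨_, h10⟩])
  refine ⟨σ, M.inj ?_, M.inj ?_, M.inj ?_⟩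
  · rw [hσ, show c = M.γ 8 from hev 8]; exact h8.trans (congrArg _ (hev 8))
  · rw [hσ, show d = M.γ 9 from hev 9]; exact h9.trans (congrArg _ (hev 9))
  · rw [hσ, show e * M.ev (dwords.getD zOne []) = M.ev (dwords.getD zOne [] ++ [10]) from
      (M.ev_append _ _).symm, show e = M.γ 10 from hev 10]
    exact h10

/-- The group of outer automorphisms has order two. -/
theorem main : Nat.card (Cfsg.Out S) = 2 := by
  obtain ⟨σ, s1, s2, s3⟩ := exists_sigma
  have : Fact (Nat.Prime 11) := ⟨by norm_num⟩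
  have houter : ∀ a : S, σ ≠ MulAut.conj a := by
    intro a ha
    subst ha
    have h1 : a * c = c * a := mul_inv_eq_iff_eq_mul.1 s1
    obtain ⟨i, hi, rfl⟩ := cent_c a h1
    rcases not_central i hi with rfl | ⟨q, hq, hne⟩
    · rw [pow_zero, map_one, MulAut.one_apply, ← M.ev_append] at s3
      obtain ⟨q, hq, hne⟩ := z_moves
      exact M.ne_of_run (letters_of (app_lt2 (dwords_lt _) (by simp))) (letters_of (by simp))
        (i := q) (show q < 1782 by omega) hne s3.symm
    · have h2 : c ^ i * d = d * c ^ i := mul_inv_eq_iff_eq_mul.1 s2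
      rw [ev_rep, ← M.ev_append, ← M.ev_append] at h2
      exact M.ne_of_run (letters_of (app_lt2 (rep_lt _ _ (by omega)) (by simp)))
        (letters_of (app_lt2 (by simp) (rep_lt _ _ (by omega)))) (i := q)
        (show q < 1782 by omega) hne h2.symm
  refine card_out_eq_two σ houter fun ψ => exists_conj_or closure_cde (k := 1)
    (z := M.ev (dwords.getD zOne [])) σ houter (fun χ => ?_) ψ
  obtain ⟨a, k, hk, z, hz, θ, hθ, t1, t2, t3⟩ := exists_normal_form 11
    (show ¬ 11 ^ 2 ∣ Nat.card S by rw [card_S]; norm_num) (c := c) (d := d) (e := e)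
    (r := 2) (s := 3) [1] (fun x => ∃ n < 20, x = M.ev (dwords.getD n [])) orderOf_c d_c e_d cent_c
    cent_d
    (fun k hk => by
      rcases Nat.eq_zero_or_pos k with h0 | h0
      · exact Or.inl h0
      · refine Or.inr ⟨1, List.mem_singleton_self 1, repPow.getD k 0, ?_⟩
        rw [pow_one, ev_rep, ev_rep, ← M.ev_append, ← M.ev_append]
        exact of_same (app_lt2 (rep_lt _ _ (by omega)) (rep_lt _ _ (by omega)))
          (app_lt2 (rep_lt _ _ (by omega)) (by simp))
          ((eq_rep k hk).resolve_left (by omega)))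
    (by decide)
    (fun k hk => ⟨shiftPow.getD k 0, by
      rw [ev_rep, ev_rep, ← M.ev_append, ← M.ev_append, ← M.ev_append]
      exact of_same (app_lt2 (app_lt2 (rep_lt _ _ (by omega)) (by simp)) (rep_lt _ _ (by omega)))
        (app_lt2 (rep_lt _ _ (by omega)) (by simp))
        (eq_shift k hk)⟩)
    χ
  rw [List.mem_singleton] at hk
  subst hk
  rw [pow_one] at t1
  refine ⟨a, θ, hθ, ?_⟩
  obtain ⟨n, hn, rfl⟩ := hz
  rcases kills n hn with rfl | rfl | ⟨hp, hne⟩
  · left
    rw [zero_word, M.ev_nil, mul_one] at t3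
    exact ⟨t1, t2, t3⟩
  · right
    exact ⟨by rw [pow_one]; exact t1, t2, t3⟩
  · exfalso
    have hlen : n < rels.length := by rw [words_ok.2.2.2.2.2]; exact hn
    have h1 : word3 c d e (rels.getD n ([], 0)).1 = 1 := by
      rw [M.word3_ev, ← M.ev_nil]
      exact of_same (code3_lt (by simp) (by simp) (by simp)) (by simp)
        (eq_rel n hlen)
    have h2 := word3_of_map θ h1
    rw [t1, t2, t3, ← M.ev_append, M.word3_ev, ← M.ev_nil] at h2
    exact M.ne_of_run (u := code3 (rels.getD n ([], 0)).1 [8] [9] (dwords.getD n [] ++ [10])) (v := [])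
      (letters_of (code3_lt (by simp) (by simp) (app_lt2 (dwords_lt n) (by simp))))
      (by simp) (i := (rels.getD n ([], 0)).2) hp hne h2

end Cfsg.Agent.SuzOut
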