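import Cfsg.Agent.SuzOut.Data
import Cfsg.Agent.CosetEnum.Suzuki.Main

/-! The finite checks for the automorphisms of the Suzuki sporadic group. -/

set_option autoImplicit false
set_option maxRecDepth 100000
set_option maxHeartbeats 4000000
set_option Elab.async false

namespace Cfsg.Agent.SuzOut

open Cfsg.Agent.CosetCert Cfsg.Agent.CosetEnum Cfsg.Agent.PermAut Cfsg.Agent.AutCert

/-- The tables of the generators. -/
noncomputable def T0 (l i : ℕ) : ℕ := (genTabs.getD l (PTree.leaf 0)).get 32 i

/-- All tables. -/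
noncomputable def T1 : ℕ → ℕ → ℕ := extT T0 8 extTabs

/-- A statement at all points. -/
theorem forall_of_allB {f : ℕ → Bool}
    (h : allB (fun i => Nat.ble 1782 i || f i) 11 0 = true) : ∀ i < 1782, f i = true :=
  fun _ hi => of_ble_or (allB_spec_zero h (by decide) hi) hi

/-- The base points. -/
noncomputable def basePts : List ℕ := levCs.map fun P => P.1.base

/-- Two words agree at the base points. -/
noncomputable def sameB (u v : List ℕ) : Bool :=
  basePts.all fun i => Nat.beq (runWord T1 u i) (runWord T1 v i)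

/-- The generator tables are right and are involutions. -/
noncomputable def genB (i : ℕ) : Bool := (List.range 7).all fun l =>
  Nat.beq (T0 (l + 1) i) (SuzukiG.data.look (l + 1) i) &&
    (Nat.blt (T0 (l + 1) i) 1782 && Nat.beq (T0 (l + 1) (T0 (l + 1) i)) i)

theorem gen_ok : ∀ i < 1782, genB i = true := by
  have h : allB (fun i => Nat.ble 1782 i || genB i) 11 0 = true := by decide +kernel
  exact fun i hi => forall_of_allB h i hi

theorem ext_tabs_ok : ∀ j < extWords.length, ∀ i < 1782,
    runWord T0 (extWords.getD j []) i = (extTabs.getD j (PTree.leaf 0)).get 32 i := by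
  have h : allB (fun i => Nat.ble 1782 i || (List.range extWords.length).all fun j =>
      Nat.beq (runWord T0 (extWords.getD j []) i) ((extTabs.getD j (PTree.leaf 0)).get 32 i)) 11 0 = true := by
    decide +kernel
  intro j hj i hi
  exact Nat.eq_of_beq_eq_true (List.all_eq_true.1 (forall_of_allB h i hi) j (List.mem_range.2 hj))

theorem ext_words_ok : ∀ u ∈ extWords, ∀ l ∈ u, l ∈ [1, 2, 3, 4, 5, 6, 7] := by decide +kernel

/-- A level is in order. -/
noncomputable def levB (P : SLevel) : Bool :=
  allB (fun r => Nat.ble P.1.size r || P.1.ok 1782 T1 r) 11 0 &&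
    (decide (P.2 = P.1.gens.map List.reverse) &&
    (Nat.ble P.1.size 2048 && (P.1.gens.all fun u => u.all fun l => Nat.ble 1 l && Nat.ble l 7)))

/-- The generators of the levels fix the earlier base points. -/
noncomputable def fixB : List ℕ → List SLevel → Bool
  | _, [] => true
  | prev, P :: Ps => (P.1.gens.all fun u => prev.all fun p => Nat.beq (runWord T1 u p) p) &&
      fixB (P.1.base :: prev) Ps

theorem mem_seven {l : ℕ} (h : (Nat.ble 1 l && Nat.ble l 7) = true) : l ∈ [1, 2, 3, 4, 5, 6, 7] := by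
  rw [Bool.and_eq_true] at h
  have h1 := Nat.le_of_ble_eq_true h.1
  have h2 := Nat.le_of_ble_eq_true h.2
  simp only [List.mem_cons, List.not_mem_nil, or_false]
  omega

theorem T1_eq {l : ℕ} (h : l ∈ [1, 2, 3, 4, 5, 6, 7]) (i : ℕ) : T1 l i = T0 l i := by
  have hl : l < 8 := by simp at h; omega
  rw [T1, extT, show Nat.blt l 8 = true from Nat.ble_eq_true_of_le hl, cond_true]

theorem invol_ok : ∀ l ∈ [1, 2, 3, 4, 5, 6, 7], ∀ i < 1782, T1 l i < 1782 ∧ T1 l (T1 l i) = i := by
  intro l hl i hi
  obtain ⟨k, hk, rfl⟩ : ∃ k, k < 7 ∧ l = k + 1 := ⟨l - 1, by simp at hl; omega, by simp at hl; omega⟩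
  have h := gen_ok i hi
  simp only [genB, List.all_eq_true, List.mem_range, Bool.and_eq_true] at h
  obtain ⟨-, h2, h3⟩ := h k hk
  rw [T1_eq hl, T1_eq hl]
  exact ⟨Nat.le_of_ble_eq_true h2, Nat.eq_of_beq_eq_true h3⟩

theorem chain_of_checks : ∀ (Ps : List SLevel) (prev : List ℕ), Ps.all levB = true →
    fixB prev Ps = true →
      ChainValid 1782 T1 [1, 2, 3, 4, 5, 6, 7] prev (Ps.map Prod.fst) ∧
        ∀ P ∈ Ps, InvOK 1782 T1 [1, 2, 3, 4, 5, 6, 7] P := by
  intro Ps
  induction Ps with
  | nil => exact fun _ _ _ => ⟨trivial, fun P hP => absurd hP List.not_mem_nil⟩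
  | cons P Ps ih =>
    intro prev hl hf
    rw [List.all_cons, Bool.and_eq_true] at hl
    rw [fixB, Bool.and_eq_true] at hf
    obtain ⟨h1, h2⟩ := ih _ hl.2 hf.2
    have hP := hl.1
    simp only [levB, Bool.and_eq_true, decide_eq_true_eq] at hP
    obtain ⟨hok, hrev, hsz, hlet⟩ := hP
    have hlet' : ∀ u ∈ P.1.gens, ∀ l ∈ u, l ∈ [1, 2, 3, 4, 5, 6, 7] := fun u hu l hl' =>
      mem_seven (List.all_eq_true.1 (List.all_eq_true.1 hlet u hu) l hl')
    refine ⟨⟨fun u hu => ⟨hlet' u hu, fun p hp =>
        Nat.eq_of_beq_eq_true (List.all_eq_true.1 (List.all_eq_true.1 hf.1 u hu) p hp)⟩,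
      fun r hr => of_ble_or
        (allB_spec_zero hok (le_trans hr (Nat.le_of_ble_eq_true hsz)) (Nat.lt_succ_self r)) hr,
      h1⟩, ?_⟩
    rintro Q (_ | ⟨_, hQ⟩)
    · refine ⟨fun u hu l hl' => ?_, fun j hj i hi => ?_⟩
      · rw [hrev] at hu
        obtain ⟨v, hv, rfl⟩ := List.mem_map.1 hu
        exact hlet' v hv l (List.mem_reverse.1 hl')
      · have hj' : j < P.2.length := by rw [hrev, List.length_map]; exact hj
        rw [List.getD_eq_getElem _ _ hj, List.getD_eq_getElem _ _ hj']
        simp only [hrev, List.getElem_map]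
        exact runWord_reverse invol_ok _ (hlet' _ (List.getElem_mem hj)) i hi
    · exact h2 Q hQ

theorem levC_ok : levCs.all levB = true := by decide +kernel
theorem levC_fix : fixB [] levCs = true := by decide +kernel
theorem levC_prod : 448345497600 ≤ chainProd (levCs.map Prod.fst) := by decide +kernel
theorem levD_ok : levDs.all levB = true := by decide +kernel
theorem levD_fix : fixB [] levDs = true := by decide +kernel
theorem levD_prod : 448345497600 ≤ chainProd (levDs.map Prod.fst) := by decide +kernel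

theorem baseC : levCs.map (fun P => P.1.base) = [0, 1, 2, 3, 4, 5].map fun e => itr T1 [8] e 0 := by
  decide +kernel

theorem baseD : levDs.map (fun P => P.1.base) = [0, 1, 2, 3, 4].map fun e => itr T1 [9] e 0 := by
  decide +kernel

theorem base_lt : ∀ P ∈ levCs, P.1.base < 1782 := by decide +kernel

theorem centC : ∀ q < 1782, commOK T1 levCs [8] [0, 1, 2, 3, 4, 5] cwords q = true := by
  have h : allB (fun i => Nat.ble 1782 i || commOK T1 levCs [8] [0, 1, 2, 3, 4, 5] cwords i) 11 0 = true := by
    decide +kernel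
  exact fun i hi => forall_of_allB h i hi

theorem centD : ∀ q < 1782, commOK T1 levDs [9] [0, 1, 2, 3, 4] dwords q = true := by
  have h : allB (fun i => Nat.ble 1782 i || commOK T1 levDs [9] [0, 1, 2, 3, 4] dwords i) 11 0 = true := by
    decide +kernel
  exact fun i hi => forall_of_allB h i hi

theorem eq_pow : sameB (List.replicate 11 8) [] = true := by decide +kernel
theorem eq_dc : sameB [8, 9] ([9] ++ [8, 8]) = true := by decide +kernel
theorem eq_ed : sameB [9, 10] ([10] ++ [9, 9, 9]) = true := by decide +kernel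
theorem eq_rep : ∀ k < 11, k = 0 ∨
    sameB (List.replicate k 8 ++ List.replicate (repPow.getD k 0) 9)
      (List.replicate (repPow.getD k 0) 9 ++ [8]) = true := by decide +kernel
theorem eq_shift : ∀ k < 11, sameB (List.replicate k 8 ++ [9] ++ List.replicate (shiftPow.getD k 0) 8)
      (List.replicate (shiftPow.getD k 0) 8 ++ [9]) = true := by decide +kernel
theorem eq_gen : ∀ l < 7, sameB [l + 1] (genWords.getD l []) = true := by decide +kernel
theorem eq_rel : ∀ n < rels.length, sameB (code3 (rels.getD n ([], 0)).1 [8] [9] [10]) [] = true := by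
  decide +kernel

theorem kills : ∀ n < 20, n = 0 ∨ n = zOne ∨
    ((rels.getD n ([], 0)).2 < 1782 ∧ runWord T1 (code3 (rels.getD n ([], 0)).1 [8] [9] (dwords.getD n [] ++ [10]))
      (rels.getD n ([], 0)).2 ≠ (rels.getD n ([], 0)).2) := by
  decide +kernel

theorem zero_word : dwords.getD 0 [] = [] := rfl

theorem words_ok : (∀ u ∈ cwords ++ dwords ++ genWords, ∀ l ∈ u, l < 11 ∧ 1 ≤ l) ∧
    (∀ u ∈ genWords, ∀ l ∈ u, 8 ≤ l) ∧ genWords.length = 7 ∧
    dwords.length = 20 ∧ cwords.length = 11 ∧ rels.length = 20 := by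
  decide +kernel

theorem cwords_eq : ∀ n < 11, cwords.getD n [] = List.replicate n 8 := by decide +kernel

/-- The permutation giving the outer automorphism. -/
noncomputable def tauB (i : ℕ) : Bool :=
  Nat.blt (tauT.get 32 i) 1782 && (Nat.beq (tauT.get 32 (tauT.get 32 i)) i &&
  (Nat.beq (tauT.get 32 (T1 8 (tauT.get 32 i))) (T1 8 i) &&
  (Nat.beq (tauT.get 32 (T1 9 (tauT.get 32 i))) (T1 9 i) &&
  Nat.beq (tauT.get 32 (T1 10 (tauT.get 32 i))) (runWord T1 (dwords.getD zOne [] ++ [10]) i))))

theorem tau_ok : ∀ i < 1782, tauB i = true := by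
  have h : allB (fun i => Nat.ble 1782 i || tauB i) 11 0 = true := by decide +kernel
  exact fun i hi => forall_of_allB h i hi

theorem not_central : ∀ k < 11, k = 0 ∨ ∃ q < 3,
    runWord T1 (List.replicate k 8 ++ [9]) q ≠ runWord T1 ([9] ++ List.replicate k 8) q := by
  decide +kernel

theorem z_moves : ∃ q < 3, runWord T1 (dwords.getD zOne [] ++ [10]) q ≠ runWord T1 [10] q := by
  decide +kernel

theorem seven_moves : T1 7 0 ≠ 0 ∧ T1 8 0 ≠ 0 := by decide +kernel

end Cfsg.Agent.SuzOut
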